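import Groth.Agent.QfsCmp.Col
import Groth.Agent.PBCCons.Apply

/-!
# Étale cohomology of an inverse image from a resolution on a finer big site
-/

set_option autoImplicit false
set_option backward.isDefEq.respectTransparency false
set_option backward.isDefEq.respectTransparency.types false
set_option linter.unusedSectionVars false
set_option maxHeartbeats 800000

universe u

open CategoryTheory CategoryTheory.Limits AlgebraicGeometry Opposite Abelian Groth.Agent.BigSiteLib
open Groth.Agent.PBCCons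

noncomputable section

namespace Groth.Agent.PBCCons.Desc

variable (K : Precoverage Scheme.{u}) {Y : Scheme.{u}}

/-- The complex of sections over an object of a complex of sheaves. -/
abbrev secCx {K : Precoverage Scheme.{u}} (C : CochainComplex (BigSite.Ab K Y) ℕ) (Z : Over Y) : CochainComplex AddCommGrpCat.{u + 1} ℕ :=
  ((FppfCmp.sectF (QuotSh.J K Y) Z).mapHomologicalComplex _).obj C

variable {K} (Z : Over Y)

/-- The constant sheaf of integers on the big site of an object, pushed to the base. -/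
abbrev freeObj (K : Precoverage Scheme.{u}) : BigSite.Ab K Y :=
  (BigSite.shriekAb K Z.hom).obj
    ((constantSheaf (QuotSh.J K Z.left) AddCommGrpCat.{u + 1}).obj (AddCommGrpCat.of (ULift.{u + 1} ℤ)))

/-- The top of the big site of an object, over the base. -/
def topIso : (Over.map Z.hom).obj (Over.mk (𝟙 Z.left)) ≅ Z :=
  Over.isoMk (Iso.refl _) ((Category.id_comp _).trans (Category.id_comp _).symm)

/-- Maps out of the constant sheaf of integers are global sections. -/
def constSecEquiv (T : Scheme.{u}) (G : BigSite.Ab K T) :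
    ((constantSheaf (QuotSh.J K T) AddCommGrpCat.{u + 1}).obj (AddCommGrpCat.of (ULift.{u + 1} ℤ)) ⟶ G) ≃
      G.obj.obj (op (Over.mk (𝟙 T))) :=
  ((constantSheafAdj (QuotSh.J K T) AddCommGrpCat.{u + 1} Over.mkIdTerminal).homEquiv
      (AddCommGrpCat.of (ULift.{u + 1} ℤ)) G).trans
    ((ConcreteCategory.homEquiv (X := AddCommGrpCat.of (ULift.{u + 1} ℤ))
      (Y := G.obj.obj (op (Over.mk (𝟙 T))))).trans (uliftZMultiplesHom (G.obj.obj (op (Over.mk (𝟙 T))))).symm)

theorem constSecEquiv_natural {T : Scheme.{u}} {G G' : BigSite.Ab K T}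
    (a : (constantSheaf (QuotSh.J K T) AddCommGrpCat.{u + 1}).obj (AddCommGrpCat.of (ULift.{u + 1} ℤ)) ⟶ G)
    (b : G ⟶ G') : constSecEquiv T G' (a ≫ b) = b.hom.app (op (Over.mk (𝟙 T))) (constSecEquiv T G a) := by
  simp only [constSecEquiv, Equiv.trans_apply]
  rw [Adjunction.homEquiv_naturality_right]
  rfl

/-- Maps out of `freeObj` are sections. -/
def freeEquiv (G : BigSite.Ab K Y) : (freeObj Z K ⟶ G) ≃ G.obj.obj (op Z) :=
  ((BigSite.shriekAbAdj K Z.hom).homEquiv _ G).trans
    ((constSecEquiv Z.left ((BigSite.pullBig K Z.hom AddCommGrpCat.{u + 1}).obj G)).trans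
      (G.obj.mapIso (topIso Z).op.symm).addCommGroupIsoToAddEquiv.toEquiv)

theorem freeEquiv_natural {G G' : BigSite.Ab K Y} (a : freeObj Z K ⟶ G) (b : G ⟶ G') :
    freeEquiv Z G' (a ≫ b) = b.hom.app (op Z) (freeEquiv Z G a) := by
  simp only [freeEquiv, Equiv.trans_apply]
  rw [Adjunction.homEquiv_naturality_right, constSecEquiv_natural]
  exact (NatTrans.naturality_apply b.hom (topIso Z).op.symm.hom _).symm

theorem freeEquiv_add (G : BigSite.Ab K Y) (a b : freeObj Z K ⟶ G) :
    freeEquiv Z G (a + b) = freeEquiv Z G a + freeEquiv Z G b :=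
  Groth.Agent.SiteBase.map_add_of_natural (preadditiveCoyoneda.obj (op (freeObj Z K))) (FppfCmp.sectF (QuotSh.J K Y) Z)
    (fun G s => freeEquiv Z G s) (fun g s => freeEquiv_natural Z s g) G a b

/-- Sections over an object of a complex are maps out of `freeObj`. -/
def secCxIso {A : BigSite.Ab K Y} (I : InjectiveResolution A) :
    SpSeqLib.homCx (freeObj Z K) I ≅ secCx I.cocomplex Z :=
  HomologicalComplex.Hom.isoOfComponents
    (fun k => (AddEquiv.mk' (freeEquiv Z (I.cocomplex.X k)) (freeEquiv_add Z _)).toAddCommGrpIso) fun i j _ => by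
    ext a
    exact (freeEquiv_natural Z a _).symm

instance preservesFiniteColimits_pullBig {T : Scheme.{u}} (g : T ⟶ Y) :
    PreservesFiniteColimits (BigSite.pullBig K g AddCommGrpCat.{u + 1}) :=
  haveI : PreservesColimitsOfSize.{0, 0} (BigSite.pullBig K g AddCommGrpCat.{u + 1}) :=
    (BigSite.bigAdj K g AddCommGrpCat.{u + 1}).leftAdjoint_preservesColimits
  PreservesColimitsOfSize.preservesFiniteColimits _

theorem nonempty_ext_pull_equiv (A : BigSite.Ab K Y) (n : ℕ) :
    Nonempty (BigSite.H K Z.left ((BigSite.pullBig K Z.hom AddCommGrpCat.{u + 1}).obj A) n ≃+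
      Abelian.Ext.{u + 1} (freeObj Z K) A n) := by
  haveI := preservesFiniteLimits_shriekAb Z.hom K
  exact BigSiteLib.nonempty_ext_equiv
    (BigSite.shriekAbAdj K Z.hom)
    (Z := (constantSheaf (QuotSh.J K Z.left) AddCommGrpCat.{u + 1}).obj (AddCommGrpCat.of (ULift.{u + 1} ℤ)))
    (Z' := freeObj Z K) (Iso.refl _) A n

theorem nonempty_HF_congr {T : Scheme.{u}} {A B : BigSite.Ab K T} (e : A ≅ B) (n : ℕ) :
    Nonempty (BigSite.H K T A n ≃+ BigSite.H K T B n) :=
  ⟨((Abelian.extFunctorObj _ n).mapIso e).addCommGroupIsoToAddEquiv⟩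

variable (hK : Fine K) (hac : ∀ m, AcycUpTo K m)
  [∀ S, BigSite.AEtCont K S] [∀ S, BigSite.EpsCont Scheme.etalePrecoverage K S]

include hK hac

/-- The cohomology of the sections of a resolution is étale cohomology. -/
theorem nonempty_homology_secCx_iso (F : EtCoh.Ab Y) (hF : EtCoh.IsTorsion F)
    (I : InjectiveResolution ((piK K Y).obj F)) (n : ℕ) :
    Nonempty ((secCx I.cocomplex Z).homology n ≅
      AddCommGrpCat.of (EtCoh.H Z.left ((EtCoh.pull Z.hom).obj F) n)) := by
  obtain ⟨e₁⟩ := SpSeqLib.nonempty_homology_homCx_iso (freeObj Z K) I n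
  obtain ⟨e₂⟩ := nonempty_ext_pull_equiv Z ((piK K Y).obj F) n
  obtain ⟨e₃⟩ := PBCCons.nonempty_H_equiv hK hac Z.left (isTorsion_pull Z.hom hF) n
  obtain ⟨e₄⟩ := nonempty_HF_congr (K := K)
    (pullPiKIso K hK Z.hom F ≪≫ ((piEtPullIso (K := K) Z.left).app _).symm) n
  exact ⟨(HomologicalComplex.homologyFunctor _ _ n).mapIso (secCxIso Z I).symm ≪≫ e₁ ≪≫
    (e₂.symm.trans (e₄.trans e₃.symm)).toAddCommGrpIso⟩

omit Z in
/-- The same over the base. -/
theorem nonempty_homology_secCx_base_iso (F : EtCoh.Ab Y) (hF : EtCoh.IsTorsion F)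
    (I : InjectiveResolution ((piK K Y).obj F)) (n : ℕ) :
    Nonempty ((secCx I.cocomplex (Over.mk (𝟙 Y))).homology n ≅ AddCommGrpCat.of (EtCoh.H Y F n)) := by
  haveI : PreservesFiniteLimits (EtCoh.pull (𝟙 Y)) := S0101.result _
  obtain ⟨e⟩ := nonempty_homology_secCx_iso (Over.mk (𝟙 Y)) hK hac F hF I n
  exact ⟨e ≪≫ (AddEquiv.ofBijective _ (S0642.result (𝟙 Y) F n)).symm.toAddCommGrpIso⟩

end Groth.Agent.PBCCons.Desc
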