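import Groth.Agent.HyperLib.Acyclic
import Groth.Agent.HyperLib.Descent
import Groth.Agent.S8565
import Mathlib.CategoryTheory.Sites.Equivalence
import Mathlib.CategoryTheory.Sites.Abelian
import Mathlib.CategoryTheory.Preadditive.Injective.Basic

/-!
# Injective sheaves are acyclic for hypercoverings of the final object by single objects

The general theory of hypercoverings is stated for small sites; it applies to a large site with small
hom types after one increase of the universe.
-/

set_option autoImplicit false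
set_option backward.isDefEq.respectTransparency false
set_option backward.isDefEq.respectTransparency.types false
set_option maxHeartbeats 800000

universe u

open CategoryTheory CategoryTheory.Limits Opposite Simplicial
open Groth.Agent.S8565.S8565Aux (pr map_pr exists_hom)

noncomputable section

namespace Groth.Agent.PBCCons.Desc.Hyper

variable {C : Type (u + 1)} [Category.{u} C] [HasFiniteLimits C] (J : GrothendieckTopology C)
  (K : SimplicialObject C)
  [∀ (n : ℕ) (F : (SimplexCategory.Truncated n)ᵒᵖ ⥤ C), (SimplexCategory.Truncated.inclusion n).op.HasRightKanExtension F]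
  {T : C} (hT : IsTerminal T)

/-- The comparison with the coskeleton is covering and the vertices cover the final object. -/
structure IsHyperCov : Prop where
  zero : Sieve.generate (Presieve.singleton (hT.from (K.obj (op (SimplexCategory.mk 0))))) ∈ J T
  succ : ∀ n : ℕ, Sieve.generate (Presieve.singleton
    (((SimplicialObject.coskAdj n).unit.app K).app (op (SimplexCategory.mk (n + 1))))) ∈ J _

omit [HasFiniteLimits C] in
theorem unit_pr {n : ℕ} {Δ : SimplexCategory} (a : SimplexCategory.Truncated n) (α : a.obj ⟶ Δ) :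
    ((SimplicialObject.coskAdj n).unit.app K).app (op Δ) ≫ pr K a α = K.map α.op := by
  have e : ((SimplicialObject.coskAdj n).unit.app K).app (op a.obj) ≫
      ((SimplexCategory.Truncated.inclusion n).op.ranCounit.app ((SimplicialObject.truncation n).obj K)).app (op a) =
        𝟙 _ :=
    by
      have h := NatTrans.congr_app ((SimplicialObject.coskAdj n).left_triangle_components K) (op a)
      rw [show (SimplicialObject.coskAdj (C := C) n).counit = _ from
        Functor.ranAdjunction_counit (SimplexCategory.Truncated.inclusion n).op C] at h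
      exact h
  have n' := ((SimplicialObject.coskAdj n).unit.app K).naturality α.op
  simp only [pr]
  refine (Category.assoc _ _ _).symm.trans ?_
  refine (congrArg (· ≫ _) n'.symm).trans ?_
  refine (Category.assoc _ _ _).trans (Eq.trans ?_ (Category.comp_id _))
  exact congrArg _ e

variable {J K hT}

/-- Compatible families of faces fill locally. -/
theorem IsHyperCov.fill (hK : IsHyperCov J K hT) (n : ℕ) {U : C}
    (t : ∀ a : SimplexCategory.Truncated n, (a.obj ⟶ SimplexCategory.mk (n + 1)) → (U ⟶ K.obj (op a.obj)))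
    (ht : ∀ (a b : SimplexCategory.Truncated n) (θ : a ⟶ b) (α : b.obj ⟶ SimplexCategory.mk (n + 1)),
      t b α ≫ K.map θ.hom.op = t a (θ.hom ≫ α)) :
    ∃ S ∈ J U, ∀ {Z : C} (k : Z ⟶ U), S k → ∃ c : Z ⟶ K.obj (op (SimplexCategory.mk (n + 1))),
      ∀ a α, c ≫ K.map α.op = k ≫ t a α := by
  obtain ⟨p, hp⟩ := exists_hom K t ht
  refine ⟨_, J.pullback_stable p (hK.succ n), fun {Z} k hk => ?_⟩
  obtain ⟨W, c, v, ⟨⟩, hc⟩ := hk
  refine ⟨c, fun a α => ?_⟩
  have e1 := congrArg (c ≫ ·) (unit_pr K (n := n) a α).symm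
  refine e1.trans ((Category.assoc _ _ _).symm.trans ?_)
  refine (congrArg (· ≫ _) hc).trans ((Category.assoc _ _ _).trans ?_)
  exact congrArg (k ≫ ·) (hp a α)

/-- Two maps to the vertices lift to an edge locally. -/
theorem IsHyperCov.fill_pair (hK : IsHyperCov J K hT) {U : C} (t₀ t₁ : U ⟶ K.obj (op (SimplexCategory.mk 0))) :
    ∃ S ∈ J U, ∀ {Z : C} (k : Z ⟶ U), S k → ∃ c : Z ⟶ K.obj (op (SimplexCategory.mk 1)),
      c ≫ K.δ (1 : Fin 2) = k ≫ t₀ ∧ c ≫ K.δ (0 : Fin 2) = k ≫ t₁ := by
  let s (a : SimplexCategory.Truncated 0) (α : a.obj ⟶ SimplexCategory.mk 1) : U ⟶ K.obj (op a.obj) :=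
    (if α.toOrderHom 0 = 0 then t₀ else t₁) ≫ K.map (SimplexCategory.const a.obj (SimplexCategory.mk 0) 0).op
  obtain ⟨S, hS, h⟩ := hK.fill 0 s fun a b θ α => by
    show ((if α.toOrderHom 0 = 0 then t₀ else t₁) ≫ _) ≫ _ =
      (if (θ.hom ≫ α).toOrderHom 0 = 0 then t₀ else t₁) ≫ _
    have hz : ∀ x : Fin (b.obj.len + 1), x = 0 := fun x => Fin.ext (by have := b.property; have := x.isLt; omega)
    have e : (θ.hom ≫ α).toOrderHom 0 = α.toOrderHom 0 := congrArg α.toOrderHom (hz _)
    rw [e, Category.assoc, ← K.map_comp, ← op_comp]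
    congr 3
  refine ⟨S, hS, fun {Z} k hk => ?_⟩
  obtain ⟨c, hc⟩ := h k hk
  have e : K.map (SimplexCategory.const (SimplexCategory.mk 0) (SimplexCategory.mk 0) 0).op = 𝟙 _ := by
    rw [show SimplexCategory.const (SimplexCategory.mk 0) (SimplexCategory.mk 0) 0 = 𝟙 _ from
      SimplexCategory.Hom.ext _ _ (OrderHom.ext _ _ (funext fun i => Subsingleton.elim (α := Fin 1) _ _)), op_id,
      K.map_id]
  have h1 : (SimplexCategory.δ (1 : Fin 2)).toOrderHom 0 = 0 := rfl
  have h0 : ¬ (SimplexCategory.δ (0 : Fin 2)).toOrderHom 0 = 0 := by decide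
  refine ⟨c, (hc ⟨SimplexCategory.mk 0, le_rfl⟩ (SimplexCategory.δ 1)).trans ?_,
    (hc ⟨SimplexCategory.mk 0, le_rfl⟩ (SimplexCategory.δ 0)).trans ?_⟩
  · show k ≫ (if _ then t₀ else t₁) ≫ _ = _
    rw [if_pos h1, e, Category.comp_id]
  · show k ≫ (if _ then t₀ else t₁) ≫ _ = _
    rw [if_neg h0, e, Category.comp_id]

variable (G : Sheaf J AddCommGrpCat.{u + 1})

theorem isSheafFor (X : C) (S : Sieve X) (hS : S ∈ J X) :
    Presieve.IsSheafFor (G.obj ⋙ forget AddCommGrpCat.{u + 1}) S.arrows :=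
  ((isSheaf_iff_isSheaf_of_type _ _).1
    ((Presheaf.isSheaf_iff_isSheaf_forget _ _ (forget AddCommGrpCat.{u + 1})).1 G.property)) S hS

theorem IsHyperCov.toBase_injective (hK : IsHyperCov J K hT) :
    Function.Injective (G.obj.map (hT.from (K.obj (op (SimplexCategory.mk 0)))).op) := by
  intro x y h
  refine (isSheafFor G T _ hK.zero).isSeparatedFor.ext fun Z g hg => ?_
  obtain ⟨W, a, b, ⟨⟩, rfl⟩ := hg
  show G.obj.map (a ≫ _).op x = G.obj.map (a ≫ _).op y
  rw [op_comp, G.obj.map_comp, ConcreteCategory.comp_apply, ConcreteCategory.comp_apply]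
  exact congrArg _ h

theorem IsHyperCov.exact_zero (hK : IsHyperCov J K hT) (x : G.obj.obj (op (K.obj (op (SimplexCategory.mk 0)))))
    (hx : G.obj.map (K.δ (0 : Fin 2)).op x = G.obj.map (K.δ (1 : Fin 2)).op x) :
    ∃ l, G.obj.map (hT.from (K.obj (op (SimplexCategory.mk 0)))).op l = x := by
  have h := (Presieve.isSheafFor_iff_generate _).2 (isSheafFor G T _ hK.zero)
  rw [Presieve.isSheafFor_singleton] at h
  obtain ⟨l, hl, -⟩ := h x fun {Z} p q _ => by
    obtain ⟨S, hS, hfill⟩ := hK.fill_pair p q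
    refine (isSheafFor G Z S hS).isSeparatedFor.ext fun W k hk => ?_
    obtain ⟨c, hc₁, hc₀⟩ := hfill k hk
    show G.obj.map k.op (G.obj.map p.op x) = G.obj.map k.op (G.obj.map q.op x)
    rw [← ConcreteCategory.comp_apply, ← ConcreteCategory.comp_apply, ← G.obj.map_comp, ← G.obj.map_comp,
      ← op_comp, ← op_comp, ← hc₁, ← hc₀, op_comp, op_comp, G.obj.map_comp, G.obj.map_comp,
      ConcreteCategory.comp_apply, ConcreteCategory.comp_apply, hx]
  exact ⟨l, hl⟩

section Small

/-- The site in the higher universe. -/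
abbrev D (C : Type (u + 1)) [Category.{u} C] : Type (u + 1) := AsSmall.{u + 1} C

/-- The equivalence with the site in the higher universe. -/
abbrev eqv (C : Type (u + 1)) [Category.{u} C] : C ≌ D C := AsSmall.equiv

/-- The topology in the higher universe. -/
abbrev Js (J : GrothendieckTopology C) : GrothendieckTopology (D C) := (eqv C).inverse.inducedTopology J

omit [HasFiniteLimits C] in
theorem mem_Js {U : D C} {S : Sieve U} (h : S.functorPushforward (eqv C).inverse ∈ J ((eqv C).inverse.obj U)) :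
    S ∈ Js J U :=
  (Functor.mem_inducedTopology_iff_of_isCoverDense _ _ _).2 h

omit [HasFiniteLimits C] in
theorem mem_Js_of {U : D C} {S : Sieve U} {R : Sieve (ULift.down U)} (hR : R ∈ J (ULift.down U))
    (h : ∀ {Z : C} (k : Z ⟶ (ULift.down U)), R k → S ((⟨k⟩ : AsSmall.up.obj Z ⟶ U))) : S ∈ Js J U := by
  refine mem_Js (J.superset_covering ?_ hR)
  intro Z k hk
  exact ⟨⟨Z⟩, ⟨k⟩, 𝟙 Z, h k hk, (Category.id_comp _).symm⟩

/-- The simplicial formal coproduct with one term in each degree. -/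
abbrev Ks (K : SimplicialObject C) : SimplicialObject (FormalCoproduct.{u + 1} (D C)) :=
  K ⋙ AsSmall.up ⋙ FormalCoproduct.incl (D C)

/-- A map to a simplex. -/
abbrev mor {U : C} {n : ℕ} (t : U ⟶ K.obj (op (SimplexCategory.mk n))) :
    (FormalCoproduct.incl (D C)).obj ⟨U⟩ ⟶ (Ks K).obj (op (SimplexCategory.mk n)) :=
  (FormalCoproduct.incl (D C)).map ⟨t⟩

theorem IsHyperCov.fills (hK : IsHyperCov J K hT) : HyperLib.Fills (Js J) (Ks K) := fun n Y F => by
  obtain ⟨S, hS, h⟩ := hK.fill n (U := (ULift.down Y)) (fun a α => ULift.down ((F.g a.obj.len a.property α).φ PUnit.unit))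
    fun a b θ α => by
      have e := F.compat b.obj.len a.obj.len b.property a.property θ.hom α
      exact congrArg ULift.down ((Category.comp_id _).symm.trans (((FormalCoproduct.hom_ext_iff _ _).1 e).2 PUnit.unit))
  refine ⟨{ arrows := fun Z k => S (ULift.down k), downward_closed := fun hk g => S.downward_closed hk (ULift.down g) },
    mem_Js_of hS (fun k hk => hk), fun {Z} k hk => ?_⟩
  obtain ⟨c, hc⟩ := h (ULift.down k) hk
  refine ⟨(FormalCoproduct.incl (D C)).map ⟨c⟩, fun m hm θ => FormalCoproduct.hom_ext (funext fun _ => rfl) fun _ => ?_⟩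
  refine (Category.comp_id _).trans (ULift.ext _ _ ?_)
  exact hc ⟨SimplexCategory.mk m, hm⟩ θ

theorem IsHyperCov.vertex (hK : IsHyperCov J K hT) (U : D C) : HyperLib.vertexSieve (Ks K) U ∈ Js J U :=
  mem_Js_of (J.pullback_stable (hT.from (ULift.down U)) hK.zero) fun k hk => by
    obtain ⟨W, c, v, ⟨⟩, -⟩ := hk
    exact ⟨(FormalCoproduct.incl (D C)).map ⟨c⟩⟩

variable (J) in
/-- Transport of sheaves to the higher universe. -/
abbrev sheafEquiv : Sheaf J AddCommGrpCat.{u + 1} ≌ Sheaf (Js J) AddCommGrpCat.{u + 1} :=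
  (eqv C).sheafCongr J (Js J) AddCommGrpCat.{u + 1}

theorem IsHyperCov.exact_succ (hK : IsHyperCov J K hT) [Injective G] (n : ℕ)
    (x : G.obj.obj (op (K.obj (op (SimplexCategory.mk (n + 1))))))
    (hx : ∑ i : Fin (n + 3), (-1 : ℤ) ^ (i : ℕ) • G.obj.map (K.δ i).op x = 0) :
    ∃ y : G.obj.obj (op (K.obj (op (SimplexCategory.mk n)))),
      ∑ i : Fin (n + 2), (-1 : ℤ) ^ (i : ℕ) • G.obj.map (K.δ i).op y = x := by
  let G' := (sheafEquiv J).functor.obj G
  haveI : Injective G' :=
    (sheafEquiv J).symm.toAdjunction.map_injective G inferInstance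
  let t : ∀ m, (FormalCoproduct.incl (D C)).obj ⟨K.obj (op (SimplexCategory.mk m))⟩ ⟶
      (Ks K).obj (op (SimplexCategory.mk m)) := fun m => mor (𝟙 _)
  have hv : ∀ (m : ℕ) (z : (HyperLib.cochains (Ks K) G'.obj).X (m + 1)) (w : (HyperLib.cochains (Ks K) G'.obj).X m)
      (i : Fin (m + 2)),
      HyperLib.valN (Ks K) G'.obj (t (m + 1) ≫ (Ks K).δ i) w = G.obj.map (K.δ i).op (HyperLib.valN (Ks K) G'.obj (t m) w) := by
    intro m z w i
    have e : t (m + 1) ≫ (Ks K).δ i = (FormalCoproduct.incl (D C)).map ⟨K.δ i⟩ ≫ t m := by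
      show (FormalCoproduct.incl (D C)).map _ ≫ (FormalCoproduct.incl (D C)).map _ = _ ≫ (FormalCoproduct.incl (D C)).map _
      rw [← Functor.map_comp, ← Functor.map_comp]
      exact congrArg _ (ULift.ext _ _ ((Category.id_comp _).trans (Category.comp_id _).symm))
    rw [e, HyperLib.valN_comp]
    rfl
  have hsurj : ∀ (m : ℕ) (a : G.obj.obj (op (K.obj (op (SimplexCategory.mk m))))),
      ∃ z : (HyperLib.cochains (Ks K) G'.obj).X m, HyperLib.valN (Ks K) G'.obj (t m) z = a := by
    intro m a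
    let c : G'.obj.obj (op ⟨K.obj (op (SimplexCategory.mk m))⟩) ⟶ (HyperLib.cochains (Ks K) G'.obj).X m :=
      Pi.lift fun _ => 𝟙 _
    refine ⟨c a, ?_⟩
    rw [← ConcreteCategory.comp_apply]
    have e : c ≫ HyperLib.valN (Ks K) G'.obj (t m) = 𝟙 _ := by
      simp only [c, HyperLib.valN]
      erw [Pi.lift_π_assoc, Category.id_comp]
      exact G'.obj.map_id _
    rw [e]
    rfl
  obtain ⟨z, hz⟩ := hsurj (n + 1) x
  have hinj : ∀ (m : ℕ) (a b : (HyperLib.cochains (Ks K) G'.obj).X m),
      HyperLib.valN (Ks K) G'.obj (t m) a = HyperLib.valN (Ks K) G'.obj (t m) b → a = b :=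
    fun m a b h => HyperLib.cochain_ext _ _ fun _ => h
  have hd : ∀ (m : ℕ) (w : (HyperLib.cochains (Ks K) G'.obj).X m),
      HyperLib.valN (Ks K) G'.obj (t (m + 1)) ((HyperLib.cochains (Ks K) G'.obj).d m (m + 1) w) =
        ∑ i : Fin (m + 2), (-1 : ℤ) ^ (i : ℕ) • G.obj.map (K.δ i).op (HyperLib.valN (Ks K) G'.obj (t m) w) := by
    intro m w
    rw [HyperLib.d_valN]
    exact Finset.sum_congr rfl fun i _ => congrArg _ (hv m 0 w i)
  obtain ⟨y, hy⟩ := HyperLib.exists_coboundary hK.fills hK.vertex G' z (by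
    refine hinj _ _ _ ?_
    rw [hd, hz, map_zero]
    exact hx)
  refine ⟨HyperLib.valN (Ks K) G'.obj (t n) y, ?_⟩
  rw [← hd, hy, hz]

end Small

end Groth.Agent.PBCCons.Desc.Hyper
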