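import Groth.Agent.PBCCons.Desc.Rows
import Groth.Agent.ThickTop
import Mathlib.AlgebraicGeometry.Morphisms.Proper

/-!
# Proper surjective morphisms are ph coverings
-/

set_option autoImplicit false
set_option backward.isDefEq.respectTransparency false
set_option backward.isDefEq.respectTransparency.types false

universe u

open CategoryTheory CategoryTheory.Limits AlgebraicGeometry Opposite
open Groth.Agent.QfsCmp (E cnt)

noncomputable section

namespace Groth.Agent.PBCCons.Desc

/-- A proper surjective morphism is a ph covering. -/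
theorem isPhCover_singleton {W T : Scheme.{u}} (g : W ⟶ T) [IsProper g] [Surjective g] :
    HTop.IsPhCover (PreZeroHypercover.singleton.{0} g) := by
  refine ⟨fun _ => inferInstanceAs (LocallyOfFiniteType g), fun V => ?_⟩
  haveI : IsAffine (V : T.Opens) := V.2
  let g' := g ∣_ (V : T.Opens)
  haveI : IsProper g' := IsZariskiLocalAtTarget.restrict (P := @IsProper) inferInstance _
  haveI : Surjective g' := IsZariskiLocalAtTarget.restrict (P := @Surjective) inferInstance _
  let W' : Scheme.{u} := (g ⁻¹ᵁ (V : T.Opens)).toScheme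
  haveI : CompactSpace W' := QuasiCompact.compactSpace_of_compactSpace g'
  let 𝒰 := W'.affineCover.finiteSubcover
  haveI : Finite 𝒰.I₀ := inferInstance
  let e := Finite.equivFin 𝒰.I₀
  refine ⟨⟨Fin (Nat.card 𝒰.I₀), fun j => 𝒰.X (e.symm j), fun j => 𝒰.f (e.symm j) ≫ g'⟩,
    ⟨V.2, inferInstanceAs (Finite (Fin _)), fun j => ?_, ?_⟩, fun j => ?_⟩
  · show IsAffine (W'.affineCover.X _)
    infer_instance
  · refine ⟨W', g', fun j => 𝒰.f (e.symm j), inferInstance, inferInstance, fun j => inferInstance,
      fun j => rfl, fun x => ?_⟩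
    obtain ⟨y, hy⟩ := 𝒰.covers x
    have key : ∀ i, i = 𝒰.idx x → x ∈ Set.range (𝒰.f i).base := fun i hi => hi ▸ ⟨y, hy⟩
    exact ⟨e (𝒰.idx x), key _ (Equiv.symm_apply_apply e _)⟩
  · exact ⟨PUnit.unit, 𝒰.f (e.symm j) ≫ (g ⁻¹ᵁ (V : T.Opens)).ι,
      (Category.assoc _ _ _).trans (((congrArg (fun t => 𝒰.f (e.symm j) ≫ t) (morphismRestrict_ι g _).symm)).trans
        (Category.assoc _ _ _).symm)⟩

/-- Proper surjective morphisms give coverings of the ph site. -/
theorem cov_ph {X Y : Scheme.{u}} (f : X ⟶ Y) [IsProper f] [Surjective f] : Cov HTop.phPrecoverage f := fun U => by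
  haveI : IsProper (cnt f U).left := by
    show IsProper (((Over.mapPullbackAdj f).counit.app U).left)
    simp only [Over.mapPullbackAdj_counit_app, Over.homMk_left]
    infer_instance
  haveI : Surjective (cnt f U).left := by
    show Surjective (((Over.mapPullbackAdj f).counit.app U).left)
    simp only [Over.mapPullbackAdj_counit_app, Over.homMk_left]
    infer_instance
  refine ThickTop.generate_mem_over HTop.phPrecoverage (cnt f U) ?_
  have h := (HTop.presieve₀_mem_phPrecoverage_iff _).2 (isPhCover_singleton (cnt f U).left)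
  rwa [PreZeroHypercover.presieve₀_singleton] at h

end Groth.Agent.PBCCons.Desc
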