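import Groth.Agent.PBCCons.Desc.Hyper
import Groth.Agent.PBCCons.Desc.Col
import Groth.Agent.PBCCons.Desc.PhCover
import Groth.Agent.SpSeqE1.Bicomplex
import Mathlib.AlgebraicGeometry.Limits

/-!
# The descent spectral sequence of a hypercovering
-/

set_option autoImplicit false
set_option backward.isDefEq.respectTransparency false
set_option backward.isDefEq.respectTransparency.types false
set_option maxHeartbeats 800000

universe u

open CategoryTheory CategoryTheory.Limits AlgebraicGeometry Opposite Simplicial

noncomputable section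

namespace Groth.Agent.PBCCons.Desc

variable {P : Precoverage Scheme.{u}} {Y : Scheme.{u}} (K : SimplicialObject (Over Y))

/-- The cosimplicial group of sections over a simplicial object. -/
abbrev secCosimp (G : BigSite.Ab P Y) : CosimplicialObject AddCommGrpCat.{u + 1} := K.rightOp ⋙ G.obj

/-- The alternating sum of the coface maps. -/
abbrev hypD (G : BigSite.Ab P Y) (p : ℕ) :=
  AlgebraicTopology.AlternatingCofaceMapComplex.objD (secCosimp K G) p

theorem hypD_apply (G : BigSite.Ab P Y) (p : ℕ) (x : G.obj.obj (op (K.obj (op (SimplexCategory.mk p))))) :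
    hypD K G p x = ∑ i : Fin (p + 2), (-1 : ℤ) ^ (i : ℕ) • G.obj.map (K.δ i).op x := by
  let ev : (G.obj.obj (op (K.obj (op (SimplexCategory.mk p)))) ⟶
      G.obj.obj (op (K.obj (op (SimplexCategory.mk (p + 1)))))) →+
      G.obj.obj (op (K.obj (op (SimplexCategory.mk (p + 1))))) :=
    AddMonoidHom.mk' (fun g => g x) fun _ _ => rfl
  exact (map_sum ev _ _).trans (Finset.sum_congr rfl fun i _ => map_zsmul ev _ _)

/-- The differential as a natural transformation. -/
def hypDNat (P : Precoverage Scheme.{u}) (p : ℕ) :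
    FppfCmp.sectF (QuotSh.J P Y) (K.obj (op (SimplexCategory.mk p))) ⟶
      FppfCmp.sectF (QuotSh.J P Y) (K.obj (op (SimplexCategory.mk (p + 1)))) where
  app G := hypD K G p
  naturality G G' a := by
    ext x
    show hypD K G' p (a.hom.app _ x) = a.hom.app _ (hypD K G p x)
    rw [hypD_apply, hypD_apply, map_sum]
    refine Finset.sum_congr rfl fun i _ => ?_
    rw [map_zsmul]
    exact congrArg _ (NatTrans.naturality_apply a.hom (K.δ i).op x).symm

/-- The augmentation. -/
def hypAug (P : Precoverage Scheme.{u}) :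
    FppfCmp.sectF (QuotSh.J P Y) (Over.mk (𝟙 Y)) ⟶ FppfCmp.sectF (QuotSh.J P Y) (K.obj (op (SimplexCategory.mk 0))) where
  app G := G.obj.map (Over.mkIdTerminal.from (K.obj (op (SimplexCategory.mk 0)))).op
  naturality G G' a := (a.hom.naturality _).symm

variable [∀ (n : ℕ) (F : (SimplexCategory.Truncated n)ᵒᵖ ⥤ Over Y),
    (SimplexCategory.Truncated.inclusion n).op.HasRightKanExtension F]
  (hK : Hyper.IsHyperCov (QuotSh.J P Y) K (Over.mkIdTerminal (X := Y)))

/-- The bicomplex of sections of an injective resolution over a hypercovering. -/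
def hypBicx {A : BigSite.Ab P Y} (I : InjectiveResolution A) : SpSeqE1.AugBicx.{u + 1} where
  col p := secCx I.cocomplex (K.obj (op (SimplexCategory.mk p)))
  δ p := (NatTrans.mapHomologicalComplex (hypDNat K P p) (ComplexShape.up ℕ)).app I.cocomplex
  δ_δ p := by
    ext q x
    exact ConcreteCategory.congr_hom
      (AlgebraicTopology.AlternatingCofaceMapComplex.d_squared (secCosimp K (I.cocomplex.X q)) p) x
  L := secCx I.cocomplex (Over.mk (𝟙 Y))
  ε := (NatTrans.mapHomologicalComplex (hypAug K P) (ComplexShape.up ℕ)).app I.cocomplex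
  ε_δ := by
    ext q l
    show hypD K (I.cocomplex.X q) 0 ((I.cocomplex.X q).obj.map (Over.mkIdTerminal.from _).op l) = 0
    rw [hypD_apply, Fin.sum_univ_two, Fin.val_zero, Fin.val_one, pow_zero, pow_one, one_smul, neg_one_smul,
      ← ConcreteCategory.comp_apply, ← Functor.map_comp, ← ConcreteCategory.comp_apply, ← Functor.map_comp,
      ← op_comp, ← op_comp, Over.mkIdTerminal.hom_ext (K.δ (0 : Fin 2) ≫ _) (K.δ (1 : Fin 2) ≫ Over.mkIdTerminal.from _)]
    exact add_neg_cancel _
  mono_ε q := hK.toBase_injective (I.cocomplex.X q)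
  exact_zero q x hx := by
    refine hK.exact_zero (I.cocomplex.X q) x ?_
    have h : hypD K (I.cocomplex.X q) 0 x = 0 := hx
    rw [hypD_apply, Fin.sum_univ_two, Fin.val_zero, Fin.val_one, pow_zero, pow_one, one_smul, neg_one_smul] at h
    exact add_neg_eq_zero.1 h
  exact_succ p q x hx := by
    haveI := I.injective q
    have h : hypD K (I.cocomplex.X q) (p + 1) x = 0 := hx
    rw [hypD_apply] at h
    obtain ⟨y, hy⟩ := hK.exact_succ (I.cocomplex.X q) p x h
    exact ⟨y, (hypD_apply K _ p y).trans hy⟩

omit [∀ (n : ℕ) (F : (SimplexCategory.Truncated n)ᵒᵖ ⥤ Over Y),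
    (SimplexCategory.Truncated.inclusion n).op.HasRightKanExtension F] in
theorem generate_mem_ph {Z W : Over Y} (g : Z ⟶ W) [IsProper g.left] [Surjective g.left] :
    Sieve.generate (Presieve.singleton g) ∈ QuotSh.J HTop.phPrecoverage Y W := by
  refine ThickTop.generate_mem_over HTop.phPrecoverage g ?_
  have h := (HTop.presieve₀_mem_phPrecoverage_iff _).2 (isPhCover_singleton g.left)
  rwa [PreZeroHypercover.presieve₀_singleton] at h

end Groth.Agent.PBCCons.Desc
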