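import Groth.Agent.QfsCmp.Rows

/-!
# Injective sheaves are acyclic for the Čech complex of a covering, on any big site
-/

set_option autoImplicit false
set_option backward.isDefEq.respectTransparency false
set_option backward.isDefEq.respectTransparency.types false
set_option linter.unusedSectionVars false

universe w u

open CategoryTheory CategoryTheory.Limits AlgebraicGeometry Opposite Simplicial
open Groth.Agent.EtSecDescLib
open Groth.Agent.QfsCmp (E cnt topY tau tauBase tau_face_zero tau_face_succ tau_face_one tauBase_toBase cech_d_natural)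

noncomputable section

namespace Groth.Agent.PBCCons.Desc

variable (K : Precoverage Scheme.{u}) {X Y : Scheme.{u}}

/-- The base change of a morphism to every scheme over the base is a covering. -/
def Cov (f : X ⟶ Y) : Prop :=
  ∀ U : Over Y, Sieve.generate (Presieve.singleton (cnt f U)) ∈ QuotSh.J K Y U

variable {K} (f : X ⟶ Y)

/-- The Čech functor in a degree. -/
abbrev ch (p : ℕ) (G : BigSite.Ab K Y) : AddCommGrpCat.{u + 1} := (cechComplex f G.obj).X p

theorem face_map (G : BigSite.Ab K Y) {U V : Over Y} (g : U ⟶ V) (x : G.obj.obj (op ((E f).obj V))) :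
    pmap G.obj ((E f).map g) x = pmap ((E f).op ⋙ G.obj) g x := rfl

variable (G : BigSite.Ab K Y)

/-- The Čech complex of the pulled back functor. -/
abbrev Q : (Over Y)ᵒᵖ ⥤ AddCommGrpCat.{u + 1} := (E f).op ⋙ G.obj

theorem homotopy_succ (n : ℕ) (x : G.obj.obj (op ((E f).obj (pow f (n + 1))))) :
    pmap G.obj (tau f (n + 1)) ((cechComplex f (Q f G)).d (n + 1) (n + 2) x) =
      x - (id ((cechComplex f (Q f G)).d n (n + 1) (pmap G.obj (tau f n) x)) :
        G.obj.obj (op ((E f).obj (pow f (n + 1))))) := by
  dsimp only [id]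
  rw [cech_d, cech_d, map_sum, Fin.sum_univ_succ, sub_eq_add_neg, ← Finset.sum_neg_distrib]
  congr 1
  · rw [Fin.val_zero, pow_zero, one_smul, ← face_map, pmap_comp, tau_face_zero]
    show (G.obj.map (𝟙 _)).hom x = x
    rw [G.obj.map_id]
    rfl
  · refine Finset.sum_congr rfl fun i _ => ?_
    rw [map_zsmul, ← face_map, pmap_comp, tau_face_succ, ← face_map, pmap_comp, Fin.val_succ, pow_succ, mul_neg,
      mul_one, neg_smul]

theorem homotopy_zero (x : G.obj.obj (op ((E f).obj (pow f 0)))) :
    pmap G.obj (tau f 0) ((cechComplex f (Q f G)).d 0 1 x) =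
      x - pmap (Q f G) (toBase f) (pmap G.obj (tauBase f) x) := by
  rw [cech_d, map_sum, Fin.sum_univ_two, map_zsmul, map_zsmul, ← face_map, ← face_map, pmap_comp, pmap_comp,
    ← face_map, pmap_comp, tau_face_one, tau_face_zero, Fin.val_zero, Fin.val_one, pow_zero, pow_one, one_smul,
    neg_one_smul, sub_eq_add_neg]
  congr 1
  show (G.obj.map (𝟙 _)).hom x = x
  rw [G.obj.map_id]
  rfl

/-- The unit of the adjunction with the direct image from the covering scheme. -/
def unitQ : G.obj ⟶ Q f G where
  app U := G.obj.map (cnt f U.unop).op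
  naturality U V g := by
    show G.obj.map g ≫ G.obj.map (cnt f V.unop).op = G.obj.map (cnt f U.unop).op ≫ G.obj.map ((E f).map g.unop).op
    rw [← G.obj.map_comp, ← G.obj.map_comp]
    congr 1
    apply Quiver.Hom.unop_inj
    exact ((Over.mapPullbackAdj f).counit.naturality g.unop).symm

section Cover

variable (hf : Cov K f)

include hf

theorem unitQ_injective (U : Over Y) : Function.Injective ((unitQ f G).app (op U)) := by
  intro x y h
  refine (((isSheaf_iff_isSheaf_of_type _ _).1
    ((Presheaf.isSheaf_iff_isSheaf_forget _ _ (forget AddCommGrpCat.{u + 1})).1 G.property)) _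
      (hf U)).isSeparatedFor.ext fun Z g hg => ?_
  obtain ⟨W, a, b, hb, rfl⟩ := hg
  cases hb
  show G.obj.map (a ≫ cnt f U).op x = G.obj.map (a ≫ cnt f U).op y
  rw [op_comp, G.obj.map_comp, ConcreteCategory.comp_apply, ConcreteCategory.comp_apply]
  exact congrArg _ h

omit hf in
/-- The unit as a morphism of sheaves. -/
def unitJ : G ⟶ (BigSite.pushBig K f AddCommGrpCat.{u + 1}).obj
    ((BigSite.pullBig K f AddCommGrpCat.{u + 1}).obj G) :=
  ⟨unitQ f G⟩

/-- An injective sheaf is a retract of the pulled back functor. -/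
theorem exists_retraction [Injective G] : ∃ r : Q f G ⟶ G.obj, unitQ f G ≫ r = 𝟙 _ := by
  haveI : Mono (unitJ f G) := by
    haveI : ∀ U, Mono ((unitQ f G).app U) := fun U =>
      (AddCommGrpCat.mono_iff_injective _).2 (unitQ_injective f G hf U.unop)
    haveI : Mono ((sheafToPresheaf _ _).map (unitJ f G)) := NatTrans.mono_of_mono_app (unitQ f G)
    exact (sheafToPresheaf _ _).mono_of_mono_map this
  exact ⟨(Injective.factorThru (𝟙 G) (unitJ f G)).hom,
    congrArg (fun t => t.hom) (Injective.comp_factorThru (𝟙 G) (unitJ f G))⟩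

theorem exact_succ [Injective G] (p : ℕ) (x : ch f (p + 1) G)
    (hx : (cechComplex f G.obj).d (p + 1) (p + 2) x = 0) :
    ∃ y, (cechComplex f G.obj).d p (p + 1) y = x := by
  obtain ⟨r, hr⟩ := exists_retraction f G hf
  let y₀ := (unitQ f G).app (op (pow f (p + 1))) x
  have h := homotopy_succ f G p y₀
  rw [← cech_d_natural f (unitQ f G) (p + 1) x, hx, map_zero, map_zero] at h
  refine ⟨r.app (op (pow f p)) (pmap G.obj (tau f p) y₀), ?_⟩
  rw [← cech_d_natural f r p]
  refine (congrArg (r.app (op (pow f (p + 1)))) (sub_eq_zero.1 h.symm).symm).trans ?_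
  exact ConcreteCategory.congr_hom (congrArg (fun t => t.app (op (pow f (p + 1)))) hr) x

theorem exact_zero [Injective G] (x : ch f 0 G) (hx : (cechComplex f G.obj).d 0 1 x = 0) :
    ∃ l, pmap G.obj (toBase f) l = x := by
  obtain ⟨r, hr⟩ := exists_retraction f G hf
  let y₀ := (unitQ f G).app (op (pow f 0)) x
  have h := homotopy_zero f G y₀
  rw [← cech_d_natural f (unitQ f G) 0 x, hx, map_zero, map_zero] at h
  refine ⟨r.app (op topY) (pmap G.obj (tauBase f) y₀), ?_⟩
  refine (NatTrans.naturality_apply r (toBase f).op _).symm.trans ?_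
  refine (congrArg (r.app (op (pow f 0))) (sub_eq_zero.1 h.symm).symm).trans ?_
  exact ConcreteCategory.congr_hom (congrArg (fun t => t.app (op (pow f 0))) hr) x

theorem toBase_injective [Injective G] : Function.Injective (pmap G.obj (toBase f)) := by
  intro x y h
  apply unitQ_injective f G hf topY
  have e : ∀ z, pmap G.obj (tauBase f) (pmap (Q f G) (toBase f) z) = z := fun z => by
    rw [← face_map, pmap_comp, tauBase_toBase]
    show (G.obj.map (𝟙 _)).hom z = z
    rw [G.obj.map_id]
    rfl
  rw [← e ((unitQ f G).app (op topY) x), ← e ((unitQ f G).app (op topY) y)]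
  congr 1
  refine (NatTrans.naturality_apply (unitQ f G) (toBase f).op x).symm.trans ?_
  refine Eq.trans ?_ (NatTrans.naturality_apply (unitQ f G) (toBase f).op y)
  exact congrArg _ h

end Cover

end Groth.Agent.PBCCons.Desc
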