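import Groth.Agent.PBCCons.Desc.Rows
import Groth.Agent.PBCCons.Desc.Col
import Groth.Agent.QfsCmp.SpSeq

/-!
# The descent spectral sequence of a covering on a finer big site
-/

set_option autoImplicit false
set_option backward.isDefEq.respectTransparency false
set_option backward.isDefEq.respectTransparency.types false

universe u

open CategoryTheory CategoryTheory.Limits AlgebraicGeometry Opposite Simplicial
open Groth.Agent.EtSecDescLib
open Groth.Agent.QfsCmp (topY cech_d_natural)

noncomputable section

namespace Groth.Agent.PBCCons.Desc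

variable {K : Precoverage Scheme.{u}} {X Y : Scheme.{u}} (f : X ⟶ Y)

/-- The Čech differential between sections over two fibre powers. -/
def chD (K : Precoverage Scheme.{u}) (p : ℕ) : FppfCmp.sectF (QuotSh.J K Y) (pow f p) ⟶ FppfCmp.sectF (QuotSh.J K Y) (pow f (p + 1)) where
  app G := (cechComplex f G.obj).d p (p + 1)
  naturality G G' a := by
    ext x
    exact (cech_d_natural f a.hom p x).symm

/-- The augmentation. -/
def chAug (K : Precoverage Scheme.{u}) : FppfCmp.sectF (QuotSh.J K Y) topY ⟶ FppfCmp.sectF (QuotSh.J K Y) (pow f 0) where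
  app G := G.obj.map (toBase f).op
  naturality G G' a := (a.hom.naturality _).symm

variable (hf : Cov K f)

/-- The Čech bicomplex of an injective resolution. -/
def augBicx {A : BigSite.Ab K Y} (I : InjectiveResolution A) : SpSeqE1.AugBicx.{u + 1} where
  col p := secCx I.cocomplex (pow f p)
  δ p := (NatTrans.mapHomologicalComplex (chD f K p) (ComplexShape.up ℕ)).app I.cocomplex
  δ_δ p := by
    ext q x
    exact ConcreteCategory.congr_hom ((cechComplex f (I.cocomplex.X q).obj).d_comp_d p (p + 1) (p + 2)) x
  L := secCx I.cocomplex topY
  ε := (NatTrans.mapHomologicalComplex (chAug f K) (ComplexShape.up ℕ)).app I.cocomplex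
  ε_δ := by
    ext q l
    show (cechComplex f (I.cocomplex.X q).obj).d 0 1 (pmap (I.cocomplex.X q).obj (toBase f) l) = 0
    rw [cech_d, Fin.sum_univ_two, pmap_comp, pmap_comp, face_toBase f 1, Fin.val_zero, Fin.val_one, pow_zero,
      pow_one, one_smul, neg_one_smul, add_neg_cancel]
  mono_ε q := haveI := I.injective q; toBase_injective f (I.cocomplex.X q) hf
  exact_zero q x hx := haveI := I.injective q; exact_zero f (I.cocomplex.X q) hf x hx
  exact_succ p q x hx := haveI := I.injective q; exact_succ f (I.cocomplex.X q) hf p x hx

end Groth.Agent.PBCCons.Desc
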